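import Mathlib
import Cfsg.Prelude.Def_Classical
import Cfsg.Agent.Lib.Helper5.Sp8B.Lift

set_option autoImplicit false

/-!
Transport of isometries of an abstract quadratic space to matrices of a standard form, along an
isometric linear equivalence.
-/

namespace Cfsg.Agent.Lib.Carve.Sp8C

open Module Cfsg.Agent.Lib.Carve.Sp8B

universe u v

variable {F : Type u} [Field F] {ι : Type} [Fintype ι] [DecidableEq ι]
  {V : Type v} [AddCommGroup V] [Module F V]

/-- conjugation by `g` followed by taking the matrix -/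
noncomputable def theta (g : V ≃ₗ[F] (ι → F)) : Module.End F V ≃+* Matrix ι ι F :=
  g.conjRingEquiv.trans (LinearMap.toMatrixAlgEquiv' (R := F) (n := ι)).toRingEquiv

theorem theta_mulVec (g : V ≃ₗ[F] (ι → F)) (B : Module.End F V) (v : V) :
    (theta g B).mulVec (g v) = g (B v) := by
  unfold theta
  rw [RingEquiv.trans_apply]
  show (LinearMap.toMatrix' (g.conjRingEquiv B)).mulVec (g v) = _
  rw [LinearMap.toMatrix'_mulVec]
  simp [LinearEquiv.conjRingEquiv]

theorem theta_toLin' (g : V ≃ₗ[F] (ι → F)) (B : Module.End F V) :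
    Matrix.toLin' (theta g B) = g.conj B := by
  apply LinearMap.ext
  intro x
  obtain ⟨v, rfl⟩ := g.surjective x
  rw [Matrix.toLin'_apply, theta_mulVec, LinearEquiv.conj_apply]
  simp

/-- the induced homomorphism on units -/
noncomputable def tGL (g : V ≃ₗ[F] (ι → F)) : (Module.End F V)ˣ →* GL ι F :=
  Units.map (theta g).toMonoidHom

theorem tGL_val (g : V ≃ₗ[F] (ι → F)) (u : (Module.End F V)ˣ) :
    ((tGL g u : GL ι F) : Matrix ι ι F) = theta g u.1 := rfl

theorem tGL_injective (g : V ≃ₗ[F] (ι → F)) : Function.Injective (tGL (ι := ι) g) := by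
  intro u u' h
  apply Units.ext
  apply (theta g).injective
  rw [← tGL_val, ← tGL_val, h]

variable (Q' : QuadraticForm F (ι → F)) (Q : QuadraticForm F V) (g : V ≃ₗ[F] (ι → F))
  (hg : ∀ v, Q' (g v) = Q v)

include hg in
theorem tGL_mem (u : (Module.End F V)ˣ) (hu : ∀ v, Q (u.1 v) = Q v) :
    tGL g u ∈ Cfsg.isometryGroup F ⇑Q' := by
  intro x y
  show Q' ((theta g u.1).mulVec x) = Q' x
  obtain ⟨v, rfl⟩ := g.surjective x
  rw [theta_mulVec, hg, hu, hg]

/-- the transported isometry -/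
noncomputable def tIso (u : (Module.End F V)ˣ) (hu : ∀ v, Q (u.1 v) = Q v) :
    ↥(Cfsg.isometryGroup F ⇑Q') := ⟨tGL g u, tGL_mem Q' Q g hg u hu⟩

theorem tIso_val (u : (Module.End F V)ˣ) (hu : ∀ v, Q (u.1 v) = Q v) :
    (((tIso Q' Q g hg u hu : ↥(Cfsg.isometryGroup F ⇑Q')) : GL ι F) : Matrix ι ι F) =
      theta g u.1 := rfl

theorem tIso_mul (u u' : (Module.End F V)ˣ) (hu : ∀ v, Q (u.1 v) = Q v)
    (hu' : ∀ v, Q (u'.1 v) = Q v) :
    tIso Q' Q g hg (u * u') (fun v => by rw [Units.val_mul, Module.End.mul_apply, hu, hu']) =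
      tIso Q' Q g hg u hu * tIso Q' Q g hg u' hu' := by
  apply Subtype.ext
  show tGL g (u * u') = tGL g u * tGL g u'
  rw [map_mul]

theorem tIso_pow_eq_one_iff (u : (Module.End F V)ˣ) (hu : ∀ v, Q (u.1 v) = Q v) (k : ℕ) :
    tIso Q' Q g hg u hu ^ k = 1 ↔ u ^ k = 1 := by
  constructor
  · intro h
    apply tGL_injective (ι := ι) g
    have h1 := congrArg Subtype.val h
    rw [SubgroupClass.coe_pow] at h1
    rw [map_pow, map_one]
    exact h1
  · intro h
    apply Subtype.ext
    rw [SubgroupClass.coe_pow]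
    show tGL g u ^ k = 1
    rw [← map_pow, h, map_one]

theorem units_pow_eq_one_iff (u : (Module.End F V)ˣ) (k : ℕ) :
    u ^ k = 1 ↔ ∀ v, (u.1 ^ k) v = v := by
  constructor
  · intro h v
    have := congrArg Units.val h
    rw [Units.val_pow_eq_pow_val, Units.val_one] at this
    rw [this, Module.End.one_apply]
  · intro h
    apply Units.ext
    rw [Units.val_pow_eq_pow_val, Units.val_one]
    apply LinearMap.ext
    intro v
    rw [h, Module.End.one_apply]

theorem orderOf_tIso (u : (Module.End F V)ˣ) (hu : ∀ v, Q (u.1 v) = Q v) (n : ℕ)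
    (hord : ∀ k : ℕ, (∀ v, (u.1 ^ k) v = v) ↔ n ∣ k) :
    orderOf (tIso Q' Q g hg u hu) = n := by
  apply Nat.dvd_antisymm
  · apply orderOf_dvd_of_pow_eq_one
    rw [tIso_pow_eq_one_iff, units_pow_eq_one_iff, hord]
  · rw [← hord, ← units_pow_eq_one_iff, ← tIso_pow_eq_one_iff Q' Q g hg u hu]
    exact pow_orderOf_eq_one _

theorem theta_pow_mulVec (B : Module.End F V) (k : ℕ) (v : V) :
    ((theta (ι := ι) g B) ^ k).mulVec (g v) = g ((B ^ k) v) := by
  rw [← map_pow, theta_mulVec]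

theorem orbSum_tIso (u : (Module.End F V)ˣ) (hu : ∀ v, Q (u.1 v) = Q v) (w : V) (k : ℕ) :
    orbSum (Matrix.toLin' (((tIso Q' Q g hg u hu : ↥(Cfsg.isometryGroup F ⇑Q')) : GL ι F) :
      Matrix ι ι F)) (g w) k = g (orbSum u.1 w k) := by
  rw [tIso_val, orbSum, orbSum, map_sum]
  apply Finset.sum_congr rfl
  intro i _
  rw [← Matrix.toLin'_pow, Matrix.toLin'_apply, theta_pow_mulVec]

theorem rank_theta [FiniteDimensional F V] (B : Module.End F V) :
    (theta (ι := ι) g B).rank = finrank F (LinearMap.range B) := by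
  unfold Matrix.rank
  have h1 : (theta (ι := ι) g B).mulVecLin = g.conj B := by
    rw [← theta_toLin']
    rfl
  rw [h1]
  have h2 : LinearMap.range (g.conj B) = (LinearMap.range B).map g.toLinearMap := by
    ext x
    constructor
    · rintro ⟨y, rfl⟩
      refine ⟨B (g.symm y), ⟨_, rfl⟩, ?_⟩
      rw [LinearEquiv.conj_apply]
      rfl
    · rintro ⟨_, ⟨y, rfl⟩, rfl⟩
      refine ⟨g y, ?_⟩
      rw [LinearEquiv.conj_apply]
      simp
  rw [h2]
  exact LinearEquiv.finrank_map_eq g _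

theorem rank_tIso [FiniteDimensional F V] (u : (Module.End F V)ˣ) (hu : ∀ v, Q (u.1 v) = Q v) :
    ((((tIso Q' Q g hg u hu : ↥(Cfsg.isometryGroup F ⇑Q')) : GL ι F) : Matrix ι ι F) - 1).rank =
      finrank F (LinearMap.range (u.1 - 1)) := by
  rw [tIso_val, ← rank_theta (ι := ι) g, map_sub, map_one]

end Cfsg.Agent.Lib.Carve.Sp8C
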