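import Mathlib
import Cfsg.Agent.Lib.Helper5.Sp8C.Trans
import Cfsg.Agent.Lib.Helper5.Sp8B.Assemble
import Cfsg.Agent.Lib.Helper5.OmegaCrit

set_option autoImplicit false

/-!
Elements of `Ω₈⁻(q)` (`q` even) of prescribed order with nonvanishing orbit sums: an orthogonal sum
of a piece of odd order and a unipotent piece whose `rank (A - 1)` is even.
-/

namespace Cfsg.Agent.Lib.Carve.Sp8C

open QuadraticMap Module
open Cfsg.Agent.Lib.Helper5.OrthCls Cfsg.Agent.Lib.Helper2.OrthCard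
open Cfsg.Agent.Lib.Carve.Sp8B

universe u

variable {F : Type u} [Field F] [Fintype F] [CharP F 2]

/-- the index type of the standard space of dimension eight -/
abbrev I8 : Type := (Fin 3 ⊕ Fin 3) ⊕ Fin 2

theorem card_I8 : Fintype.card I8 = 8 := by
  rw [Fintype.card_sum, Fintype.card_sum, Fintype.card_fin, Fintype.card_fin]

/-- elements of odd order lie in `Ω` -/
theorem mem_commutator_of_odd {ι : Type} [Fintype ι] [DecidableEq ι]
    {Q : QuadraticForm F (ι → F)} (hQ : (polarBilin Q).Nondegenerate)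
    (hex : Fintype.card F ≠ 2 ∨ Fintype.card ι ≠ 4) (hn : 2 ≤ Fintype.card ι)
    (x : ↥(Cfsg.isometryGroup F ⇑Q)) (n : ℕ) (hodd : Odd n) (hx : x ^ n = 1) :
    x ∈ commutator ↥(Cfsg.isometryGroup F ⇑Q) := by
  obtain ⟨c, rfl⟩ := hodd
  have h1 := Cfsg.Agent.Lib.Helper5.OmegaCrit.sq_mem_commutator hQ hex hn (x ^ (c + 1))
  have h2 : x ^ (c + 1) * x ^ (c + 1) = x := by
    rw [← pow_add, show c + 1 + (c + 1) = 2 * c + 1 + 1 by ring, pow_succ, hx, one_mul]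
  rwa [h2] at h1

theorem odd_nsmul {V : Type*} [AddCommGroup V] [Module F V] {n : ℕ} (hn : Odd n) (x : V) :
    n • x = x := by
  obtain ⟨c, rfl⟩ := hn
  rw [add_nsmul, mul_nsmul', two_nsmul_eq_zero (F := F), one_nsmul, zero_add]

theorem core (a b : F)
    (hab : ∀ z₁ z₂ : F, z₁ ^ 2 + a * z₁ * z₂ + b * z₂ ^ 2 = 0 → z₁ = 0 ∧ z₂ = 0)
    {n₁ d₁ : ℕ} {P₁ : Prop} (h₁ : OOrd F n₁ d₁ P₁) (hn₁ : Odd n₁) (hd₁ : Even d₁)
    {V₂ : Type u} [AddCommGroup V₂] [Module F V₂] [FiniteDimensional F V₂]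
    (Q₂ : QuadraticForm F V₂) (A₂ : Module.End F V₂) (hQ₂ : (polarBilin Q₂).Nondegenerate)
    {d₂ : ℕ} (hd₂ : finrank F V₂ = d₂) (hd₂e : Even d₂) (hdd : d₁ + d₂ = 8)
    (hA₂ : ∀ v, Q₂ (A₂ v) = Q₂ v) {n₂ : ℕ} (hn₂ : 0 < n₂)
    (hord₂ : ∀ k : ℕ, (∀ v, (A₂ ^ k) v = v) ↔ n₂ ∣ k) (hcop : Nat.Coprime n₁ n₂)
    (htype : ¬ (P₁ ↔ IsPlus Q₂)) (w₂ : V₂) (hw₂ : orbSum A₂ w₂ n₂ ≠ 0)
    (hrk : Even (finrank F (LinearMap.range (A₂ - 1)))) :
    ∃ h : ↥(Cfsg.isometryGroup F ⇑(QMn (F := F) 3 a b)),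
      h ∈ commutator ↥(Cfsg.isometryGroup F ⇑(QMn (F := F) 3 a b)) ∧ orderOf h = n₁ * n₂ ∧
      ∃ w : I8 → F, orbSum (Matrix.toLin' ((h : GL I8 F) : Matrix I8 I8 F)) w (n₁ * n₂) ≠ 0 := by
  classical
  obtain ⟨V₁, iA₁, iM₁, iF₁, Q₁, A₁, h11, h12, h13, h14, h15⟩ := h₁
  have hn₁pos : 0 < n₁ := hn₁.pos
  set Q : QuadraticForm F (V₁ × V₂) := Q₁.prod Q₂ with hQdef
  have hQ : (polarBilin Q).Nondegenerate := prod_nondeg Q₁ Q₂ h11 hQ₂
  have hQ' := QMn_nondeg (F := F) 3 a b hab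
  have hfr : finrank F (V₁ × V₂) = 8 := by rw [Module.finrank_prod, h12, hd₂, hdd]
  have hdim : finrank F (V₁ × V₂) = finrank F (I8 → F) := by
    rw [hfr, Module.finrank_fintype_fun_eq_card, card_I8]
  have hnp : ¬ IsPlus Q := by
    rw [hQdef, isPlus_prod_iff h11 hQ₂ (h12 ▸ hd₁) (hd₂ ▸ hd₂e), h15]
    exact htype
  obtain ⟨g, hg⟩ := iso_of_type Q (QMn (F := F) 3 a b) hQ hQ' hdim (by rw [hfr]; decide)
    (iff_of_false hnp (not_isPlus_QMn 3 a b hab))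
  -- the maps
  set B₁ : Module.End F (V₁ × V₂) := A₁.prodMap LinearMap.id with hB₁
  set B₂ : Module.End F (V₁ × V₂) := (LinearMap.id : V₁ →ₗ[F] V₁).prodMap A₂ with hB₂
  have hB₁a : ∀ (k : ℕ) v, (B₁ ^ k) v = ((A₁ ^ k) v.1, v.2) := by
    intro k v
    rw [hB₁, Cfsg.Agent.Lib.Helper5.SpReal.prodMap_pow_apply]
    congr 1
    have : (LinearMap.id : Module.End F V₂) = 1 := rfl
    rw [this, one_pow, Module.End.one_apply]
  have hB₂a : ∀ (k : ℕ) v, (B₂ ^ k) v = (v.1, (A₂ ^ k) v.2) := by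
    intro k v
    rw [hB₂, Cfsg.Agent.Lib.Helper5.SpReal.prodMap_pow_apply]
    congr 1
    have : (LinearMap.id : Module.End F V₁) = 1 := rfl
    rw [this, one_pow, Module.End.one_apply]
  have hA₁n : ∀ v, (A₁ ^ n₁) v = v := (h14 n₁).2 dvd_rfl
  have hA₂n : ∀ v, (A₂ ^ n₂) v = v := (hord₂ n₂).2 dvd_rfl
  have hB₁n : B₁ ^ n₁ = 1 := by
    apply LinearMap.ext
    intro v
    rw [hB₁a, hA₁n, Module.End.one_apply]
  have hB₂n : B₂ ^ n₂ = 1 := by
    apply LinearMap.ext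
    intro v
    rw [hB₂a, hA₂n, Module.End.one_apply]
  set u₁ : (Module.End F (V₁ × V₂))ˣ := Units.ofPowEqOne B₁ n₁ hB₁n hn₁pos.ne' with hu₁
  set u₂ : (Module.End F (V₁ × V₂))ˣ := Units.ofPowEqOne B₂ n₂ hB₂n hn₂.ne' with hu₂
  have hu₁v : u₁.1 = B₁ := rfl
  have hu₂v : u₂.1 = B₂ := rfl
  have hiso₁ : ∀ v, Q (u₁.1 v) = Q v := by
    intro v
    rw [hu₁v, hQdef, prod_apply, prod_apply]
    show Q₁ (A₁ v.1) + Q₂ v.2 = _
    rw [h13]
  have hiso₂ : ∀ v, Q (u₂.1 v) = Q v := by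
    intro v
    rw [hu₂v, hQdef, prod_apply, prod_apply]
    show Q₁ v.1 + Q₂ (A₂ v.2) = _
    rw [hA₂]
  have hiso : ∀ v, Q ((u₁ * u₂).1 v) = Q v := by
    intro v
    rw [Units.val_mul, Module.End.mul_apply, hiso₁, hiso₂]
  have hpow : ∀ (k : ℕ) v, ((u₁ * u₂).1 ^ k) v = ((A₁ ^ k) v.1, (A₂ ^ k) v.2) := by
    intro k v
    have : (u₁ * u₂).1 = A₁.prodMap A₂ := by
      rw [Units.val_mul, hu₁v, hu₂v, hB₁, hB₂]
      apply LinearMap.ext
      intro x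
      rfl
    rw [this, Cfsg.Agent.Lib.Helper5.SpReal.prodMap_pow_apply]
  have hord : ∀ k : ℕ, (∀ v, ((u₁ * u₂).1 ^ k) v = v) ↔ n₁ * n₂ ∣ k := by
    intro k
    rw [← hcop.lcm_eq_mul, Nat.lcm_dvd_iff, ← h14 k, ← hord₂ k]
    constructor
    · intro h
      refine ⟨fun v₁ => ?_, fun v₂ => ?_⟩
      · have := h (v₁, 0)
        rw [hpow] at this
        exact congrArg Prod.fst this
      · have := h (0, v₂)
        rw [hpow] at this
        exact congrArg Prod.snd this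
    · rintro ⟨ha, hb⟩ v
      rw [hpow, ha, hb]
  set Q' := QMn (F := F) 3 a b with hQ'def
  have hex : Fintype.card F ≠ 2 ∨ Fintype.card I8 ≠ 4 := Or.inr (by rw [card_I8]; decide)
  have hn8 : 2 ≤ Fintype.card I8 := by rw [card_I8]; decide
  refine ⟨tIso Q' Q g hg (u₁ * u₂) hiso, ?_, orderOf_tIso Q' Q g hg _ hiso _ hord, ?_⟩
  · -- membership in Ω
    have hmul := tIso_mul Q' Q g hg u₁ u₂ hiso₁ hiso₂
    rw [hmul]
    apply Subgroup.mul_mem
    · apply mem_commutator_of_odd hQ' hex hn8 _ n₁ hn₁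
      rw [tIso_pow_eq_one_iff]
      exact Units.pow_ofPowEqOne hB₁n hn₁pos.ne'
    · rw [Cfsg.Agent.Lib.Helper5.OmegaCrit.mem_commutator_iff_rank₂ CharTwo.two_eq_zero hQ' hex hn8,
        rank_tIso, hu₂v]
      have hrange : LinearMap.range (B₂ - 1) =
          (LinearMap.range (A₂ - 1)).map (LinearMap.inr F V₁ V₂) := by
        ext x
        constructor
        · rintro ⟨y, rfl⟩
          refine ⟨(A₂ - 1) y.2, ⟨_, rfl⟩, ?_⟩
          rw [LinearMap.sub_apply, hB₂]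
          apply Prod.ext
          · simp
          · simp
        · rintro ⟨_, ⟨y, rfl⟩, rfl⟩
          refine ⟨(0, y), ?_⟩
          rw [LinearMap.sub_apply, hB₂]
          apply Prod.ext
          · simp
          · simp
      rw [hrange, ← LinearEquiv.finrank_eq
        (Submodule.equivMapOfInjective (LinearMap.inr F V₁ V₂) LinearMap.inr_injective _)]
      exact hrk
  · -- the orbit sum
    refine ⟨g (0, w₂), ?_⟩
    rw [orbSum_tIso]
    intro h0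
    have h1 : orbSum (u₁ * u₂).1 ((0, w₂) : V₁ × V₂) (n₁ * n₂) = 0 := by
      apply g.injective
      rw [h0, map_zero]
    have h2 : (orbSum (u₁ * u₂).1 ((0, w₂) : V₁ × V₂) (n₁ * n₂)).2 = orbSum A₂ w₂ (n₁ * n₂) := by
      rw [orbSum, orbSum, Prod.snd_sum]
      apply Finset.sum_congr rfl
      intro i _
      rw [hpow]
    rw [h1, mul_comm, orbSum_mul A₂ w₂ hA₂n, odd_nsmul (F := F) hn₁] at h2
    exact hw₂ h2.symm

end Cfsg.Agent.Lib.Carve.Sp8C
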