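import Mathlib
import Cfsg.Agent.Lib.Helper5.Sp8C.Lower
import Cfsg.Agent.Lib.Helper5.Sp8B.Unip

set_option autoImplicit false

/-!
The unipotent pieces for the lower bound: the identity on a plane, the square of the element of order
four on a four dimensional space, and `g4 ⊕ reflection` on a six dimensional space.
-/

namespace Cfsg.Agent.Lib.Carve.Sp8C

open QuadraticMap Module
open Cfsg.Agent.Lib.Helper5.OrthCls Cfsg.Agent.Lib.Helper2.OrthCard
open Cfsg.Agent.Lib.Carve.Sp8B

universe u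

variable {F : Type u} [Field F]

theorem finrank_range_eq_of {U V W : Type*} [AddCommGroup U] [Module F U] [AddCommGroup V]
    [Module F V] [AddCommGroup W] [Module F W] (f : V →ₗ[F] W) (ψ : U →ₗ[F] W)
    (hψ : Function.Injective ψ) (h1 : ∀ v, ∃ x, ψ x = f v) (h2 : ∀ x, ∃ v, f v = ψ x) :
    finrank F (LinearMap.range f) = finrank F U := by
  have : LinearMap.range f = LinearMap.range ψ := by
    ext y
    constructor
    · rintro ⟨v, rfl⟩
      obtain ⟨x, hx⟩ := h1 v
      exact ⟨x, hx⟩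
    · rintro ⟨x, rfl⟩
      obtain ⟨v, hv⟩ := h2 x
      exact ⟨v, hv⟩
  rw [this, LinearMap.finrank_range_of_inj hψ]

section pieces

variable [CharP F 2] (ζ ζ' : F)

theorem add_eq_zero_iff_eq' {V : Type*} [AddCommGroup V] [Module F V] (x y : V) :
    x + y = 0 ↔ y = x := by
  have h2 : ∀ z : V, z + z = 0 := fun z => by
    have := two_nsmul_eq_zero (F := F) z
    rwa [two_nsmul] at this
  constructor
  · intro h
    calc y = y + (x + x) := by rw [h2, add_zero]
      _ = (x + y) + x := by abel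
      _ = x := by rw [h, zero_add]
  · rintro rfl
    exact h2 y

/-- the square of `g4` -/
theorem g4_sq_apply (p : (F × F) × (F × F)) :
    (g4 ζ ^ 2) p = ((p.1.1 + p.2.2 + p.1.2, p.1.2), (p.2.1 + p.1.2, p.2.2)) := by
  have h2 : (2 : F) = 0 := CharTwo.two_eq_zero
  rw [pow_two, Module.End.mul_apply, g4_apply, g4_apply]
  simp only
  refine Prod.ext (Prod.ext ?_ rfl) (Prod.ext ?_ ?_)
  · simp only
    linear_combination (p.2.1 + p.2.2 + ζ * p.1.2) * h2
  · simp only
    linear_combination p.2.2 * h2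
  · simp only
    linear_combination p.1.2 * h2

theorem g4_sq_order (k : ℕ) : (∀ p, ((g4 ζ ^ 2) ^ k) p = p) ↔ 2 ∣ k := by
  have := g4_order ζ (2 * k)
  rw [pow_mul] at this
  rw [this]
  constructor
  · rintro ⟨c, hc⟩
    exact ⟨c, by omega⟩
  · rintro ⟨c, rfl⟩
    exact ⟨c, by ring⟩

theorem g4_sq_iso (p : (F × F) × (F × F)) : Q4 ζ ((g4 ζ ^ 2) p) = Q4 ζ p := by
  rw [pow_two, Module.End.mul_apply, g4_iso, g4_iso]

theorem g4_sq_orbSum :
    orbSum (g4 ζ ^ 2) (((0, 1), (0, 0)) : (F × F) × (F × F)) 2 ≠ 0 := by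
  rw [orbSum, Finset.sum_range_succ, Finset.sum_range_one, pow_zero, pow_one, Module.End.one_apply,
    g4_sq_apply]
  intro h
  have := congrArg (fun x : (F × F) × (F × F) => x.2.1) h
  simp at this

theorem g4_sq_rank :
    finrank F (LinearMap.range (g4 ζ ^ 2 - 1 : Module.End F ((F × F) × (F × F)))) = 2 := by
  have h2 : (2 : F) = 0 := CharTwo.two_eq_zero
  set ψ : (F × F) →ₗ[F] ((F × F) × (F × F)) :=
    LinearMap.prod ((LinearMap.inl F F F).comp (LinearMap.fst F F F))
      ((LinearMap.inl F F F).comp (LinearMap.snd F F F)) with hψ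
  have hψa : ∀ x : F × F, ψ x = ((x.1, 0), (x.2, 0)) := fun x => rfl
  rw [finrank_range_eq_of _ ψ ?_ ?_ ?_, finrank_plane]
  · intro x y h
    rw [hψa, hψa] at h
    have h1 := congrArg (fun z : (F × F) × (F × F) => z.1.1) h
    have h3 := congrArg (fun z : (F × F) × (F × F) => z.2.1) h
    exact Prod.ext h1 h3
  · intro p
    refine ⟨(p.2.2 + p.1.2, p.1.2), ?_⟩
    rw [hψa, LinearMap.sub_apply, g4_sq_apply, Module.End.one_apply]
    refine Prod.ext (Prod.ext ?_ ?_) (Prod.ext ?_ ?_)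
    · simp only [Prod.fst_sub]
      ring
    · simp
    · simp only [Prod.snd_sub, Prod.fst_sub]
      ring
    · simp
  · intro x
    refine ⟨((0, x.2), (0, x.1 + x.2)), ?_⟩
    rw [hψa, LinearMap.sub_apply, g4_sq_apply, Module.End.one_apply]
    refine Prod.ext (Prod.ext ?_ ?_) (Prod.ext ?_ ?_)
    · simp only [Prod.fst_sub]
      linear_combination x.2 * h2
    · simp
    · simp
    · simp

/-- the six dimensional piece -/
def Q6' : QuadraticForm F (((F × F) × (F × F)) × (F × F)) := (Q4 ζ).prod (binQ ζ')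

/-- `g4 ⊕ reflection` -/
def u6 : Module.End F (((F × F) × (F × F)) × (F × F)) := (g4 ζ).prodMap (binH F)

theorem u6_pow (k : ℕ) (p : ((F × F) × (F × F)) × (F × F)) :
    (u6 ζ ^ k) p = ((g4 ζ ^ k) p.1, (binH F ^ k) p.2) :=
  Cfsg.Agent.Lib.Helper5.SpReal.prodMap_pow_apply _ _ k p

theorem u6_apply (p : ((F × F) × (F × F)) × (F × F)) : u6 ζ p = (g4 ζ p.1, binH F p.2) := rfl

theorem u6_iso (p : ((F × F) × (F × F)) × (F × F)) : Q6' ζ ζ' (u6 ζ p) = Q6' ζ ζ' p := by
  rw [Q6', prod_apply, prod_apply]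
  show Q4 ζ (g4 ζ p.1) + binQ ζ' (binH F p.2) = _
  rw [g4_iso, binH_iso]

theorem u6_order (k : ℕ) : (∀ p, (u6 ζ ^ k) p = p) ↔ 4 ∣ k := by
  constructor
  · intro h
    rw [← g4_order ζ k]
    intro p
    have := h (p, 0)
    rw [u6_pow] at this
    exact congrArg Prod.fst this
  · intro h p
    rw [u6_pow, (g4_order ζ k).2 h, (binH_order k).2 ((by norm_num : 2 ∣ 4).trans h)]

theorem u6_orbSum :
    orbSum (u6 ζ) (((((0, 1), (0, 0)), (0, 0)) : ((F × F) × (F × F)) × (F × F))) 4 ≠ 0 := by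
  intro h
  apply g4_orbSum ζ
  have h1 : orbSum (g4 ζ) (((0, 1), (0, 0)) : (F × F) × (F × F)) 4 =
      (orbSum (u6 ζ) (((((0, 1), (0, 0)), (0, 0)) : ((F × F) × (F × F)) × (F × F))) 4).1 := by
    rw [orbSum, orbSum, Prod.fst_sum]
    apply Finset.sum_congr rfl
    intro i _
    rw [u6_pow]
  rw [h1, h]
  rfl

theorem u6_rank :
    finrank F (LinearMap.range (u6 ζ - 1 : Module.End F (((F × F) × (F × F)) × (F × F)))) = 4 := by
  have h2 : (2 : F) = 0 := CharTwo.two_eq_zero
  set ψ : ((F × F) × (F × F)) →ₗ[F] (((F × F) × (F × F)) × (F × F)) :=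
    LinearMap.prod
      (LinearMap.prod ((LinearMap.inl F F F).comp
          ((LinearMap.fst F F F).comp (LinearMap.fst F (F × F) (F × F))))
        ((LinearMap.prod ((LinearMap.snd F F F).comp (LinearMap.fst F (F × F) (F × F)))
          ((LinearMap.fst F F F).comp (LinearMap.snd F (F × F) (F × F))))))
      ((LinearMap.inl F F F).comp ((LinearMap.snd F F F).comp (LinearMap.snd F (F × F) (F × F))))
    with hψ
  have hψa : ∀ x : (F × F) × (F × F), ψ x = (((x.1.1, 0), (x.1.2, x.2.1)), (x.2.2, 0)) :=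
    fun x => rfl
  have hfr : finrank F ((F × F) × (F × F)) = 4 := by
    rw [Module.finrank_prod, finrank_plane]
  rw [finrank_range_eq_of _ ψ ?_ ?_ ?_, hfr]
  · intro x y h
    rw [hψa, hψa] at h
    have h1 := congrArg (fun z : ((F × F) × (F × F)) × (F × F) => z.1.1.1) h
    have h3 := congrArg (fun z : ((F × F) × (F × F)) × (F × F) => z.1.2.1) h
    have h4 := congrArg (fun z : ((F × F) × (F × F)) × (F × F) => z.1.2.2) h
    have h5 := congrArg (fun z : ((F × F) × (F × F)) × (F × F) => z.2.1) h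
    exact Prod.ext (Prod.ext h1 h3) (Prod.ext h4 h5)
  · intro p
    refine ⟨((p.1.2.1 + p.1.2.2 + ζ * p.1.1.2, p.1.2.2), (p.1.1.2, p.2.2)), ?_⟩
    rw [hψa, LinearMap.sub_apply, Module.End.one_apply, u6_apply, g4_apply, binH_apply]
    refine Prod.ext (Prod.ext (Prod.ext ?_ ?_) (Prod.ext ?_ ?_)) (Prod.ext ?_ ?_)
    · simp only [Prod.fst_sub]
      ring
    · simp
    · simp only [Prod.fst_sub, Prod.snd_sub]
      ring
    · simp only [Prod.fst_sub, Prod.snd_sub]
      ring
    · simp only [Prod.fst_sub, Prod.snd_sub]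
      ring
    · simp
  · intro x
    refine ⟨(((0, x.2.1), (x.1.1 + x.1.2 + ζ * x.2.1, x.1.2)), (0, x.2.2)), ?_⟩
    rw [hψa, LinearMap.sub_apply, Module.End.one_apply, u6_apply, g4_apply, binH_apply]
    refine Prod.ext (Prod.ext (Prod.ext ?_ ?_) (Prod.ext ?_ ?_)) (Prod.ext ?_ ?_)
    · simp only [Prod.fst_sub]
      linear_combination (x.1.2 + ζ * x.2.1) * h2
    · simp
    · simp only [Prod.fst_sub, Prod.snd_sub]
      ring
    · simp only [Prod.fst_sub, Prod.snd_sub]
      ring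
    · simp only [Prod.fst_sub, Prod.snd_sub]
      ring
    · simp

end pieces

end Cfsg.Agent.Lib.Carve.Sp8C
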