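import Mathlib
import Cfsg.Agent.Lib.Helper5.Sp8C.Lower2

set_option autoImplicit false

/-!
For every `N ∈ L8 q` there is `h ∈ Ω₈⁻(q)` of order `N`, or of order `N / 2` with a nonvanishing orbit
sum.
-/

namespace Cfsg.Agent.Lib.Carve.Sp8C

open QuadraticMap Module
open Cfsg.Agent.Lib.Helper5.OrthCls Cfsg.Agent.Lib.Helper2.OrthCard
open Cfsg.Agent.Lib.Carve.Sp8A Cfsg.Agent.Lib.Carve.Sp8B

universe u

variable {F : Type u} [Field F] [Fintype F] [CharP F 2]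

theorem lcm7' {q : ℕ} (hq2 : 2 ∣ q) (hq : 2 ≤ q) :
    Nat.lcm (q ^ 2 + 1) (q ^ 1 + 1) = (q ^ 2 + 1) * (q + 1) := by
  rw [pow_one]
  have h2 : Nat.Coprime (q + 1) (q ^ 2 + 1) := by
    apply coprime_of_odd
    · have := odd_pow_add hq2 1 le_rfl
      rwa [pow_one] at this
    · intro g hg1 hg2
      exact dvd_two_of_add_sub (q_pow_pos hq 2) hg2 (hg1.trans d_add_one_sq)
  exact h2.symm.lcm_eq_mul

theorem lcm8' {q : ℕ} (hq2 : 2 ∣ q) (hq : 2 ≤ q) :
    Nat.lcm (q ^ 2 + 1) (q ^ 1 - 1) = (q ^ 2 + 1) * (q - 1) := by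
  rw [pow_one]
  have h2 : Nat.Coprime (q - 1) (q ^ 2 + 1) := by
    apply coprime_of_odd
    · have := odd_pow_sub hq2 hq 1 le_rfl
      rwa [pow_one] at this
    · intro g hg1 hg2
      exact dvd_two_of_add_sub (q_pow_pos hq 2) hg2 (hg1.trans (d_sub_one 2))
  exact h2.symm.lcm_eq_mul

/-- the shape of the conclusion -/
def HasElt (a b : F) (N : ℕ) : Prop :=
  ∃ h : ↥(Cfsg.isometryGroup F ⇑(QMn (F := F) 3 a b)),
    h ∈ commutator ↥(Cfsg.isometryGroup F ⇑(QMn (F := F) 3 a b)) ∧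
    (orderOf h = N ∨ (2 * orderOf h = N ∧
      ∃ w : I8 → F, orbSum (Matrix.toLin' ((h : GL I8 F) : Matrix I8 I8 F)) w (orderOf h) ≠ 0))

theorem hasElt_of_core {a b : F} {N n₁ n₂ : ℕ} (hN : 2 * (n₁ * n₂) = N)
    (h : ∃ h : ↥(Cfsg.isometryGroup F ⇑(QMn (F := F) 3 a b)),
      h ∈ commutator ↥(Cfsg.isometryGroup F ⇑(QMn (F := F) 3 a b)) ∧ orderOf h = n₁ * n₂ ∧
      ∃ w : I8 → F, orbSum (Matrix.toLin' ((h : GL I8 F) : Matrix I8 I8 F)) w (n₁ * n₂) ≠ 0) :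
    HasElt a b N := by
  obtain ⟨h, hK, ho, w, hw⟩ := h
  refine ⟨h, hK, Or.inr ⟨by rw [ho, hN], w, ?_⟩⟩
  rw [ho]
  exact hw

section planes

variable (ζ : F)

theorem one_order {V : Type*} [AddCommGroup V] [Module F V] (k : ℕ) :
    (∀ v : V, ((1 : Module.End F V) ^ k) v = v) ↔ 1 ∣ k := by
  simp

theorem one_orbSum :
    orbSum (1 : Module.End F (F × F)) ((1, 0) : F × F) 1 ≠ 0 := by
  rw [orbSum, Finset.sum_range_one, pow_zero, Module.End.one_apply]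
  intro h
  have := congrArg Prod.fst h
  simp at this

theorem one_rank : Even (finrank F (LinearMap.range ((1 : Module.End F (F × F)) - 1))) := by
  rw [sub_self, LinearMap.range_zero, finrank_bot]
  exact ⟨0, rfl⟩

end planes

theorem exists_elt (a b : F)
    (hab : ∀ z₁ z₂ : F, z₁ ^ 2 + a * z₁ * z₂ + b * z₂ ^ 2 = 0 → z₁ = 0 ∧ z₂ = 0)
    (N : ℕ) (hN : N ∈ L8 (Fintype.card F)) : HasElt a b N := by
  classical
  set q := Fintype.card F with hq
  have hq2 : 2 ∣ q := two_dvd_card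
  have hq' : 2 ≤ q := Fintype.one_lt_card
  obtain ⟨ζ, hζ⟩ := exists_aniso (F := F)
  have sm := fun d hd => oord_singer_minus (F := F) d hd
  have sp := fun d hd => oord_split_plus (F := F) d hd
  have hn2 : finrank F (F × F) = 2 := finrank_plane
  have hn4 : finrank F ((F × F) × (F × F)) = 4 := by rw [Module.finrank_prod, hn2]
  have hn6 : finrank F (((F × F) × (F × F)) × (F × F)) = 6 := by
    rw [Module.finrank_prod, hn4, hn2]
  -- types of the unipotent spaces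
  have hp2 : IsPlus (binQ (0 : F)) := binQ_isPlus_zero
  have hm2 : ¬ IsPlus (binQ ζ) := binQ_not_isPlus ζ hζ
  have hQ2 : ∀ z : F, (polarBilin (binQ z)).Nondegenerate := fun z => binQ_nondeg z
  have hQ4 : ∀ z : F, (polarBilin (Q4 z)).Nondegenerate := fun z => liftQ_nondeg _ (hQ2 z)
  have hP4 : ∀ z : F, IsPlus (Q4 z) ↔ IsPlus (binQ z) := fun z =>
    liftQ_isPlus_iff _ (hQ2 z) (by rw [hn2]; decide)
  have hQ6 : ∀ z z' : F, (polarBilin (Q6' z z')).Nondegenerate := fun z z' =>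
    prod_nondeg _ _ (hQ4 z) (hQ2 z')
  have hP6 : ∀ z z' : F, IsPlus (Q6' z z') ↔ (IsPlus (binQ z) ↔ IsPlus (binQ z')) := fun z z' => by
    rw [Q6', isPlus_prod_iff (hQ4 z) (hQ2 z') (by rw [hn4]; decide) (by rw [hn2]; decide), hP4]
  have e2 : Even 2 := by decide
  have e4 : Even 4 := by decide
  have e6 : Even 6 := by decide
  -- the odd members
  have hodd : ∀ N' : ℕ, N' ∈ L8 q → Odd N' → HasElt a b N' := by
    intro N' hN' hodd
    have h0 := exists_orderOf_eq a b hab N' hN'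
    rw [← QMn_coe 3 a b] at h0
    obtain ⟨M, hM⟩ := h0
    have hex : Fintype.card F ≠ 2 ∨ Fintype.card I8 ≠ 4 := Or.inr (by rw [card_I8]; decide)
    have hn8 : 2 ≤ Fintype.card I8 := by rw [card_I8]; decide
    refine ⟨M, ?_, Or.inl hM⟩
    apply mem_commutator_of_odd (QMn_nondeg (F := F) 3 a b hab) hex hn8 M N' hodd
    rw [← hM]
    exact pow_orderOf_eq_one M
  have o1p : Odd (q ^ 1 + 1) := odd_pow_add hq2 1 le_rfl
  have o1m : Odd (q ^ 1 - 1) := odd_pow_sub hq2 hq' 1 le_rfl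
  have o2p : Odd (q ^ 2 + 1) := odd_pow_add hq2 2 (by omega)
  have o2m : Odd (q ^ 2 - 1) := odd_pow_sub hq2 hq' 2 (by omega)
  have o3p : Odd (q ^ 3 + 1) := odd_pow_add hq2 3 (by omega)
  have o3m : Odd (q ^ 3 - 1) := odd_pow_sub hq2 hq' 3 (by omega)
  have o4p : Odd (q ^ 4 + 1) := odd_pow_add hq2 4 (by omega)
  have o4m : Odd (q ^ 4 - 1) := odd_pow_sub hq2 hq' 4 (by omega)
  have hN0 := hN
  simp only [L8, Finset.mem_insert, Finset.mem_singleton] at hN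
  rcases hN with rfl | rfl | rfl | rfl | rfl | rfl | rfl | rfl | rfl | rfl | rfl | rfl
  · -- 8 (q + 1)
    refine hasElt_of_core (n₁ := q ^ 1 + 1) (n₂ := 4) (by rw [pow_one]; ring) ?_
    exact core a b hab (sm 1 le_rfl) o1p e2 (Q6' 0 0) (u6 0) (hQ6 0 0) hn6 e6 (by norm_num)
      (u6_iso 0 0) (by norm_num) (u6_order 0)
      (by rw [show (4 : ℕ) = 2 ^ 2 by norm_num]; exact (coprime_pow_two_odd o1p 2).symm)
      (by rw [hP6]; simp [hp2]) _ (u6_orbSum 0) (by rw [u6_rank]; exact e4)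
  · -- 8 (q - 1)
    refine hasElt_of_core (n₁ := q ^ 1 - 1) (n₂ := 4) (by rw [pow_one]; ring) ?_
    exact core a b hab (sp 1 le_rfl) o1m e2 (Q6' 0 ζ) (u6 0) (hQ6 0 ζ) hn6 e6 (by norm_num)
      (u6_iso 0 ζ) (by norm_num) (u6_order 0)
      (by rw [show (4 : ℕ) = 2 ^ 2 by norm_num]; exact (coprime_pow_two_odd o1m 2).symm)
      (by rw [hP6]; simp [hp2, hm2]) _ (u6_orbSum 0) (by rw [u6_rank]; exact e4)
  · -- 4 (q ^ 2 + 1)
    refine hasElt_of_core (n₁ := q ^ 2 + 1) (n₂ := 2) (by ring) ?_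
    exact core a b hab (sm 2 (by omega)) o2p e4 (Q4 0) (g4 0 ^ 2) (hQ4 0) hn4 e4 (by norm_num)
      (g4_sq_iso 0) (by norm_num) (g4_sq_order 0)
      (by rw [show (2 : ℕ) = 2 ^ 1 by norm_num]; exact (coprime_pow_two_odd o2p 1).symm)
      (by rw [hP4]; simp [hp2]) _ (g4_sq_orbSum 0) (by rw [g4_sq_rank]; exact e2)
  · -- 4 (q ^ 2 - 1)
    refine hasElt_of_core (n₁ := q ^ 2 - 1) (n₂ := 2) (by ring) ?_
    exact core a b hab (sp 2 (by omega)) o2m e4 (Q4 ζ) (g4 ζ ^ 2) (hQ4 ζ) hn4 e4 (by norm_num)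
      (g4_sq_iso ζ) (by norm_num) (g4_sq_order ζ)
      (by rw [show (2 : ℕ) = 2 ^ 1 by norm_num]; exact (coprime_pow_two_odd o2m 1).symm)
      (by rw [hP4]; simp [hm2]) _ (g4_sq_orbSum ζ) (by rw [g4_sq_rank]; exact e2)
  · -- 2 (q ^ 3 + 1)
    refine hasElt_of_core (n₁ := q ^ 3 + 1) (n₂ := 1) (by ring) ?_
    exact core a b hab (sm 3 (by omega)) o3p e6 (binQ 0) 1 (hQ2 0) hn2 e2 (by norm_num)
      (fun v => rfl) (by norm_num) one_order (Nat.coprime_one_right _)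
      (by simp [hp2]) _ one_orbSum one_rank
  · -- 2 (q ^ 3 - 1)
    refine hasElt_of_core (n₁ := q ^ 3 - 1) (n₂ := 1) (by ring) ?_
    exact core a b hab (sp 3 (by omega)) o3m e6 (binQ ζ) 1 (hQ2 ζ) hn2 e2 (by norm_num)
      (fun v => rfl) (by norm_num) one_order (Nat.coprime_one_right _)
      (by simp [hm2]) _ one_orbSum one_rank
  · -- 2 (q ^ 2 + 1) (q + 1)
    refine hasElt_of_core (n₁ := (q ^ 2 + 1) * (q + 1)) (n₂ := 1) (by ring) ?_
    have h1 := (sm 2 (by omega)).mul (sm 1 le_rfl) e4 e2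
    rw [lcm7' hq2 hq'] at h1
    exact core a b hab h1 (by rw [pow_one] at o1p; exact o2p.mul o1p) e6 (binQ ζ) 1 (hQ2 ζ) hn2 e2
      (by norm_num) (fun v => rfl) (by norm_num) one_order (Nat.coprime_one_right _)
      (by simp [hm2]) _ one_orbSum one_rank
  · -- 2 (q ^ 2 + 1) (q - 1)
    refine hasElt_of_core (n₁ := (q ^ 2 + 1) * (q - 1)) (n₂ := 1) (by ring) ?_
    have h1 := (sm 2 (by omega)).mul (sp 1 le_rfl) e4 e2
    rw [lcm8' hq2 hq'] at h1
    exact core a b hab h1 (by rw [pow_one] at o1m; exact o2p.mul o1m) e6 (binQ 0) 1 (hQ2 0) hn2 e2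
      (by norm_num) (fun v => rfl) (by norm_num) one_order (Nat.coprime_one_right _)
      (by simp [hp2]) _ one_orbSum one_rank
  · exact hodd _ hN0 o4p
  · exact hodd _ hN0 o4m
  · exact hodd _ hN0 (by rw [pow_one] at o1m; exact o3p.mul o1m)
  · exact hodd _ hN0 (by rw [pow_one] at o1p; exact o3m.mul o1p)

end Cfsg.Agent.Lib.Carve.Sp8C
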