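import Mathlib
import Cfsg.Agent.Lib.Helper5.Sp8B.Lift

set_option autoImplicit false

/-!
The semidirect product of a vector space over a field of characteristic two with a finite group acting
linearly, and the orders of its elements: `(v, h)` has order `|h|` or `2 |h|` according as
`∑_{i<|h|} h^i v` vanishes or not.
-/

namespace Cfsg.Agent.Lib.Carve.Sp8C

open Cfsg.Agent.Lib.Carve.Sp8B

universe u v w

variable {F : Type u} [Field F] {V : Type v} [AddCommGroup V] [Module F V] {K : Type w} [Group K]

/-- the action on the multiplicative copy of `V` -/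
def phi (ρ : K →* (V ≃ₗ[F] V)) : K →* MulAut (Multiplicative V) where
  toFun k := AddEquiv.toMultiplicative (ρ k).toAddEquiv
  map_one' := by
    ext x
    simp
  map_mul' := by
    intro a b
    ext x
    simp

theorem phi_apply (ρ : K →* (V ≃ₗ[F] V)) (k : K) (x : Multiplicative V) :
    phi ρ k x = Multiplicative.ofAdd (ρ k (Multiplicative.toAdd x)) := rfl

/-- the semidirect product `V ⋊ K` -/
abbrev Semi (ρ : K →* (V ≃ₗ[F] V)) : Type (max v w) := SemidirectProduct (Multiplicative V) K (phi ρ)

variable (ρ : K →* (V ≃ₗ[F] V))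

theorem finite_semi [Finite V] [Finite K] : Finite (Semi ρ) :=
  Finite.of_equiv (Multiplicative V × K) SemidirectProduct.equivProd.symm

theorem rho_pow_apply (k : K) (n : ℕ) (x : V) :
    ((ρ k : V ≃ₗ[F] V).toLinearMap ^ n) x = ρ (k ^ n) x := by
  induction n generalizing x with
  | zero => simp
  | succ n ih =>
    rw [pow_succ', Module.End.mul_apply, ih, pow_succ', map_mul]
    rfl

theorem pow_right (x : Semi ρ) (n : ℕ) : (x ^ n).right = x.right ^ n :=
  map_pow (SemidirectProduct.rightHom (φ := phi ρ)) x n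

theorem pow_left (x : Semi ρ) (n : ℕ) :
    Multiplicative.toAdd (x ^ n).left =
      orbSum (ρ x.right : V ≃ₗ[F] V).toLinearMap (Multiplicative.toAdd x.left) n := by
  induction n with
  | zero => simp [orbSum]
  | succ n ih =>
    rw [pow_succ', SemidirectProduct.mul_left, toAdd_mul, phi_apply, toAdd_ofAdd, ih, orbSum_succ,
      add_comm]
    rfl

theorem pow_eq_one_iff (x : Semi ρ) (n : ℕ) :
    x ^ n = 1 ↔ x.right ^ n = 1 ∧
      orbSum (ρ x.right : V ≃ₗ[F] V).toLinearMap (Multiplicative.toAdd x.left) n = 0 := by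
  rw [← pow_left, ← pow_right]
  constructor
  · intro h
    rw [h]
    exact ⟨rfl, rfl⟩
  · rintro ⟨h1, h2⟩
    apply SemidirectProduct.ext
    · exact Multiplicative.toAdd.injective h2
    · exact h1

theorem rho_pow_id {k : K} {M : ℕ} (hM : k ^ M = 1) (x : V) :
    ((ρ k : V ≃ₗ[F] V).toLinearMap ^ M) x = x := by
  rw [rho_pow_apply, hM, map_one]
  rfl

/-- the order of an element of the semidirect product, first case -/
theorem orderOf_semi_zero (x : Semi ρ)
    (h0 : orbSum (ρ x.right : V ≃ₗ[F] V).toLinearMap (Multiplicative.toAdd x.left)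
      (orderOf x.right) = 0) : orderOf x = orderOf x.right := by
  have hM1 : x.right ^ orderOf x.right = 1 := pow_orderOf_eq_one _
  apply Nat.dvd_antisymm
  · apply orderOf_dvd_of_pow_eq_one
    rw [pow_eq_one_iff]
    exact ⟨hM1, h0⟩
  · apply orderOf_dvd_of_pow_eq_one
    have := pow_orderOf_eq_one x
    rw [pow_eq_one_iff] at this
    exact this.1

/-- the order of an element of the semidirect product, second case -/
theorem orderOf_semi_ne [CharP F 2] (x : Semi ρ) (hfin : IsOfFinOrder x.right)
    (h0 : orbSum (ρ x.right : V ≃ₗ[F] V).toLinearMap (Multiplicative.toAdd x.left)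
      (orderOf x.right) ≠ 0) : orderOf x = 2 * orderOf x.right := by
  set M := orderOf x.right with hM
  have hMpos : 0 < M := hfin.orderOf_pos
  have hM1 : x.right ^ M = 1 := pow_orderOf_eq_one _
  have hid : ∀ v, ((ρ x.right : V ≃ₗ[F] V).toLinearMap ^ M) v = v := fun v => rho_pow_id ρ hM1 v
  have h2M : x ^ (2 * M) = 1 := by
    rw [pow_eq_one_iff]
    refine ⟨by rw [mul_comm, pow_mul, hM1, one_pow], ?_⟩
    rw [mul_comm, orbSum_mul _ _ hid, two_nsmul_eq_zero (F := F)]
  have h1 : orderOf x ∣ 2 * M := orderOf_dvd_of_pow_eq_one h2M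
  have h3 : M ∣ orderOf x := by
    apply orderOf_dvd_of_pow_eq_one
    have := pow_orderOf_eq_one x
    rw [pow_eq_one_iff] at this
    exact this.1
  obtain ⟨t, ht⟩ := h3
  rw [ht] at h1
  have ht2 : t ∣ 2 := Nat.dvd_of_mul_dvd_mul_left hMpos (by rwa [mul_comm 2 M] at h1)
  have ht' : t = 1 ∨ t = 2 := (Nat.dvd_prime Nat.prime_two).1 ht2
  rcases ht' with rfl | rfl
  · exfalso
    rw [mul_one] at ht
    have := pow_orderOf_eq_one x
    rw [pow_eq_one_iff, ht] at this
    exact h0 this.2
  · rw [ht, mul_comm]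

end Cfsg.Agent.Lib.Carve.Sp8C
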