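import Mathlib
import Cfsg.Agent.Lib.Helper5.Sp8A.Main

set_option autoImplicit false

/-!
The upper bound for the semidirect product: if `A` is an `8 × 8` matrix over a finite field of
characteristic two with self-reciprocal characteristic polynomial, of exact order `n`, with
`∑_{i<n} A^i ≠ 0` and `rank (A - 1)` even, then `2 n` divides one of the twelve numbers of `L8 q`.
-/

namespace Cfsg.Agent.Lib.Carve.Sp8C

open Polynomial Module
open Cfsg.Agent.Lib.Carve.Sp8A

universe u

variable {F : Type u} [Field F]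

/-- the geometric sum in characteristic two -/
theorem geom_sum_char_two [CharP F 2] (e m : ℕ) :
    (∑ i ∈ Finset.range (2 ^ e * m), (X : F[X]) ^ i) =
      (X - 1) ^ (2 ^ e - 1) * (∑ j ∈ Finset.range m, (X : F[X]) ^ j) ^ (2 ^ e) := by
  have hX1 : (X - 1 : F[X]) ≠ 0 := by
    have := X_sub_C_ne_zero (1 : F)
    rwa [C_1] at this
  apply mul_right_cancel₀ hX1
  rw [geom_sum_mul]
  have hpos : 0 < 2 ^ e := Nat.pos_of_ne_zero (by positivity)
  calc (X : F[X]) ^ (2 ^ e * m) - 1 = (X ^ m - 1) ^ (2 ^ e) := by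
        rw [sub_pow_char_pow, one_pow, ← pow_mul, mul_comm]
    _ = ((∑ j ∈ Finset.range m, (X : F[X]) ^ j) * (X - 1)) ^ (2 ^ e) := by rw [geom_sum_mul]
    _ = (X - 1) ^ (2 ^ e - 1) * (∑ j ∈ Finset.range m, (X : F[X]) ^ j) ^ (2 ^ e) * (X - 1) := by
        rw [mul_pow]
        have : (X - 1 : F[X]) ^ (2 ^ e) = (X - 1) ^ (2 ^ e - 1) * (X - 1) := by
          rw [← pow_succ]
          congr 1
          omega
        rw [this]
        ring

section chain

variable {V : Type*} [AddCommGroup V] [Module F V] [FiniteDimensional F V]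

/-- a strictly increasing chain of kernels -/
theorem finrank_ker_pow_ge (N : Module.End F V) (t : ℕ)
    (hne : LinearMap.ker (N ^ t) ≠ LinearMap.ker (N ^ (t + 1))) (j : ℕ) (hj : j ≤ t + 1) :
    j ≤ finrank F (LinearMap.ker (N ^ j)) := by
  induction j with
  | zero => exact Nat.zero_le _
  | succ j ih =>
    have ih := ih (by omega)
    have hle : LinearMap.ker (N ^ j) ≤ LinearMap.ker (N ^ (j + 1)) := by
      intro x hx
      rw [LinearMap.mem_ker] at hx ⊢
      rw [pow_succ', Module.End.mul_apply, hx, map_zero]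
    have hne' : LinearMap.ker (N ^ j) ≠ LinearMap.ker (N ^ (j + 1)) := by
      intro h
      have h1 := Module.End.ker_pow_constant h
      apply hne
      have e1 := h1 (t - j)
      have e2 := h1 (t + 1 - j)
      rw [show j + (t - j) = t by omega] at e1
      rw [show j + (t + 1 - j) = t + 1 by omega] at e2
      rw [← e1, ← e2]
    have hlt : LinearMap.ker (N ^ j) < LinearMap.ker (N ^ (j + 1)) := lt_of_le_of_ne hle hne'
    have := Submodule.finrank_lt_finrank_of_lt hlt
    omega

/-- the refined bound using the dimension of the kernel -/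
theorem finrank_ker_pow_ge' (N : Module.End F V) (t : ℕ)
    (hne : LinearMap.ker (N ^ t) ≠ LinearMap.ker (N ^ (t + 1))) (j : ℕ) (hj : j ≤ t) :
    finrank F (LinearMap.ker N) + j ≤ finrank F (LinearMap.ker (N ^ (j + 1))) := by
  induction j with
  | zero => rw [zero_add, pow_one, add_zero]
  | succ j ih =>
    have ih := ih (by omega)
    have hle : LinearMap.ker (N ^ (j + 1)) ≤ LinearMap.ker (N ^ (j + 1 + 1)) := by
      intro x hx
      rw [LinearMap.mem_ker] at hx ⊢
      rw [pow_succ', Module.End.mul_apply, hx, map_zero]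
    have hne' : LinearMap.ker (N ^ (j + 1)) ≠ LinearMap.ker (N ^ (j + 1 + 1)) := by
      intro h
      have h1 := Module.End.ker_pow_constant h
      apply hne
      have e1 := h1 (t - (j + 1))
      have e2 := h1 (t + 1 - (j + 1))
      rw [show j + 1 + (t - (j + 1)) = t by omega] at e1
      rw [show j + 1 + (t + 1 - (j + 1)) = t + 1 by omega] at e2
      rw [← e1, ← e2]
    have hlt : LinearMap.ker (N ^ (j + 1)) < LinearMap.ker (N ^ (j + 1 + 1)) :=
      lt_of_le_of_ne hle hne'
    have := Submodule.finrank_lt_finrank_of_lt hlt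
    omega

end chain


section main

variable [Fintype F] [CharP F 2] {ι : Type*} [Fintype ι] [DecidableEq ι]

theorem exists_L8_of_orbit (hι : Fintype.card ι = 8) (A : Matrix ι ι F)
    (hrev : A.charpoly.reverse = A.charpoly) (n : ℕ) (hn : 0 < n) (hAn : A ^ n = 1)
    (hord : ∀ k, A ^ k = 1 → n ∣ k)
    (hS : ∑ i ∈ Finset.range n, A ^ i ≠ 0) (hev : Even (A - 1).rank) :
    ∃ N ∈ L8 (Fintype.card F), 2 * n ∣ N := by
  classical
  obtain ⟨e, m, hm, rfl⟩ := Nat.exists_eq_two_pow_mul_odd (Nat.pos_iff_ne_zero.1 hn)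
  set f : Module.End F (ι → F) := Matrix.toLin' A with hf
  set Nn : Module.End F (ι → F) := f - 1 with hNn
  set Φ : F[X] := ∑ j ∈ Finset.range m, X ^ j with hΦ
  have hpow : ∀ k : ℕ, Matrix.toLin' (A ^ k) = f ^ k := fun k => Matrix.toLin'_pow A k
  -- the orbit sum as a product
  have hsum : ∑ i ∈ Finset.range (2 ^ e * m), f ^ i = Nn ^ (2 ^ e - 1) * (aeval f Φ) ^ (2 ^ e) := by
    have h1 := congrArg (aeval f) (geom_sum_char_two (F := F) e m)
    rw [map_sum, map_mul, map_pow, map_pow, map_sub, aeval_X, map_one] at h1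
    rw [← h1]
    apply Finset.sum_congr rfl
    intro i _
    rw [map_pow, aeval_X]
  have hS' : ∑ i ∈ Finset.range (2 ^ e * m), f ^ i ≠ 0 := by
    intro h0
    apply hS
    apply Matrix.toLin'.injective
    rw [map_sum, map_zero, ← h0]
    apply Finset.sum_congr rfl
    intro i _
    exact hpow i
  have hfn : f ^ (2 ^ e * m) = 1 := by
    rw [← hpow, hAn, Matrix.toLin'_one]
    rfl
  have hpos : 0 < 2 ^ e := Nat.pos_of_ne_zero (by positivity)
  -- the chain of kernels is strict up to `2 ^ e`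
  have hne : LinearMap.ker (Nn ^ (2 ^ e - 1)) ≠ LinearMap.ker (Nn ^ (2 ^ e - 1 + 1)) := by
    intro heq
    apply hS'
    rw [hsum]
    apply LinearMap.ext
    intro v
    rw [Module.End.mul_apply, LinearMap.zero_apply, ← LinearMap.mem_ker, heq, LinearMap.mem_ker,
      ← Module.End.mul_apply, show 2 ^ e - 1 + 1 = 2 ^ e by omega]
    have h2 : Nn ^ (2 ^ e) * (aeval f Φ) ^ (2 ^ e) = f ^ (2 ^ e * m) - 1 := by
      have h3 := congrArg (aeval f) (show ((X : F[X]) - 1) ^ (2 ^ e) * Φ ^ (2 ^ e) =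
          X ^ (2 ^ e * m) - 1 by
        rw [← mul_pow, mul_comm, hΦ, geom_sum_mul, sub_pow_char_pow, one_pow, ← pow_mul, mul_comm])
      rw [map_mul, map_pow, map_pow, map_sub, aeval_X, map_one, map_sub, map_pow, aeval_X,
        map_one] at h3
      exact h3
    rw [h2, hfn, sub_self, LinearMap.zero_apply]
  have hk1 := finrank_ker_pow_ge' Nn (2 ^ e - 1) hne (2 ^ e - 1) le_rfl
  rw [show 2 ^ e - 1 + 1 = 2 ^ e by omega] at hk1
  -- the kernel of `Nn` has even positive dimension
  have hker1 : 1 ≤ finrank F (LinearMap.ker Nn) := by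
    have := finrank_ker_pow_ge Nn (2 ^ e - 1) hne 1 (by omega)
    rwa [pow_one] at this
  have hrank : finrank F (LinearMap.ker Nn) + (A - 1).rank = 8 := by
    have h1 := LinearMap.finrank_range_add_finrank_ker Nn
    rw [Module.finrank_fintype_fun_eq_card, hι] at h1
    have h2 : (A - 1).rank = finrank F (LinearMap.range Nn) := by
      have h3 : (A - 1).mulVecLin = Nn := by
        apply LinearMap.ext
        intro v
        rw [hNn, hf, Matrix.mulVecLin_apply, Matrix.sub_mulVec, Matrix.one_mulVec,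
          LinearMap.sub_apply, Matrix.toLin'_apply, Module.End.one_apply]
      unfold Matrix.rank
      rw [h3]
    omega
  have hker2 : 2 ≤ finrank F (LinearMap.ker Nn) := by
    obtain ⟨c, hc⟩ := hev
    omega
  -- the multiplicity of the root one
  set d := A.charpoly.rootMultiplicity 1 with hd
  have hdge : 2 ^ e + 1 ≤ d := by
    have h1 := LinearMap.finrank_genEigenspace_le f (1 : F) (2 ^ e)
    rw [Matrix.charpoly_toLin'] at h1
    have h2 : f.genEigenspace (1 : F) ((2 ^ e : ℕ) : ℕ∞) = LinearMap.ker (Nn ^ (2 ^ e)) := by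
      rw [Module.End.genEigenspace_nat, one_smul]
    rw [h2] at h1
    omega
  -- factor the characteristic polynomial
  have hχm : A.charpoly.Monic := Matrix.charpoly_monic A
  have hχ0 : A.charpoly ≠ 0 := hχm.ne_zero
  have hχdeg : A.charpoly.natDegree = 8 := by rw [Matrix.charpoly_natDegree_eq_dim, hι]
  obtain ⟨f', hf'eq, hf'nd⟩ :=
    Polynomial.exists_eq_pow_rootMultiplicity_mul_and_not_dvd A.charpoly hχ0 (1 : F)
  rw [C_1, ← hd] at hf'eq
  rw [C_1] at hf'nd
  have hX1m : (X - 1 : F[X]).Monic := by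
    have := monic_X_sub_C (1 : F)
    rwa [C_1] at this
  have hX1 : (X - 1 : F[X]) ≠ 0 := hX1m.ne_zero
  have hX1d : (X - 1 : F[X]).natDegree = 1 := by
    have := natDegree_X_sub_C (1 : F)
    rwa [C_1] at this
  have hf'm : f'.Monic := by
    have h1 : ((X - 1 : F[X]) ^ d * f').Monic := by rw [← hf'eq]; exact hχm
    exact Monic.of_mul_monic_left (hX1m.pow d) h1
  have hf'1 : f'.eval 1 ≠ 0 := by
    intro h0
    apply hf'nd
    have := (dvd_iff_isRoot (p := f') (a := 1)).2 h0
    rwa [C_1] at this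
  have hf'rev : f'.reverse = f' := by
    have h1 : A.charpoly.reverse = (X - 1) ^ d * f'.reverse := by
      rw [hf'eq, reverse_mul_of_domain, reverse_pow'', reverse_X_sub_one']
    rw [hrev, hf'eq] at h1
    exact (mul_left_cancel₀ (pow_ne_zero d hX1) h1).symm
  have hdegsum : d + f'.natDegree = 8 := by
    rw [← hχdeg, hf'eq, natDegree_mul (pow_ne_zero d hX1) hf'm.ne_zero, natDegree_pow, hX1d,
      mul_one]
  obtain ⟨r', hr'⟩ := even_natDegree_of_pal hf'rev hf'1
  have hr'2 : f'.natDegree = 2 * r' := by omega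
  have he2 : e ≤ 2 := by
    by_contra hlt
    have : 2 ^ 3 ≤ 2 ^ e := Nat.pow_le_pow_right (by norm_num) (by omega)
    omega
  obtain ⟨parts, c', hp1, hdvd, hbud, hc3⟩ :=
    good_of_pal r' (by omega) f' hf'm hr'2 hf'rev
  have hbudget : (∑ p ∈ parts, p.1) + (e + 1) ≤ 4 := by
    interval_cases e
    · omega
    · have : d ≠ 3 := by omega
      omega
    · have : d ≠ 5 := by omega
      omega
  obtain ⟨N, hN, hNdvd⟩ := exists_L8 (q := Fintype.card F) parts (e + 1) hp1 hbudget (by omega)
  refine ⟨N, hN, ?_⟩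
  set t₀ := parts.lcm (val (Fintype.card F)) with ht₀
  -- the odd part of the order divides `t₀`
  have hχdvd : A.charpoly ∣ X ^ (16 * t₀) - 1 := by
    have h1 : (X - 1 : F[X]) ∣ X ^ t₀ - 1 := by
      have := X_pow_sub_one_dvd (F := F) (one_dvd t₀)
      rwa [pow_one] at this
    have h2 : A.charpoly ∣ (X ^ t₀ - 1) ^ (d + 2 ^ c') := by
      rw [hf'eq, pow_add]
      exact mul_dvd_mul (pow_dvd_pow_of_dvd h1 d) hdvd
    have h3 : d + 2 ^ c' ≤ 16 := by
      have : 2 ^ c' ≤ 2 ^ 3 := Nat.pow_le_pow_right (by norm_num) hc3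
      omega
    have h4 : ((X : F[X]) ^ t₀ - 1) ^ 16 = X ^ (16 * t₀) - 1 := by
      rw [show (16 : ℕ) = 2 ^ 4 by norm_num, sub_pow_char_pow, one_pow, ← pow_mul, mul_comm]
    rw [← h4]
    exact h2.trans (pow_dvd_pow _ h3)
  have hA16 : A ^ (16 * t₀) = 1 := by
    obtain ⟨w, hw⟩ := hχdvd
    have h1 := congrArg (aeval A) hw
    rw [map_mul, Matrix.aeval_self_charpoly, zero_mul, map_sub, map_pow, aeval_X, map_one,
      sub_eq_zero] at h1
    exact h1
  have hmdvd : m ∣ t₀ := by
    have h1 : 2 ^ e * m ∣ 16 * t₀ := hord _ hA16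
    have h2 : m ∣ 16 * t₀ := (dvd_mul_left m (2 ^ e)).trans h1
    have hcop : Nat.Coprime m 16 := by
      rw [show (16 : ℕ) = 2 ^ 4 by norm_num]
      exact Nat.Coprime.pow_right 4 (Nat.coprime_two_right.2 hm)
    exact hcop.dvd_of_dvd_mul_left h2
  calc 2 * (2 ^ e * m) = 2 ^ (e + 1) * m := by rw [pow_succ]; ring
    _ ∣ 2 ^ (e + 1) * t₀ := mul_dvd_mul_left _ hmdvd
    _ ∣ N := hNdvd

end main

end Cfsg.Agent.Lib.Carve.Sp8C
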