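import Mathlib
import Cfsg.Agent.Lib.Helper5.Sp8C.Semi
import Cfsg.Agent.Lib.Helper5.Sp8C.Upper
import Cfsg.Agent.Lib.Helper5.Sp8C.Lower3
import Cfsg.Agent.Lib.Helper5.Sp8B.Final
import Cfsg.Agent.S3444

set_option autoImplicit false

/-!
`PSp₈(q)`, `q` even, is isospectral to the semidirect product of the natural module with `Ω₈⁻(q)`,
hence to groups of unbounded order.
-/

namespace Cfsg.Agent.Lib.Carve.Sp8C

open QuadraticMap Module Polynomial
open Cfsg.Agent.Lib.Helper5.OrthCls Cfsg.Agent.Lib.Helper2.OrthCard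
open Cfsg.Agent.Lib.Carve.Sp8A Cfsg.Agent.Lib.Carve.Sp8B

universe u

variable {F : Type u} [Field F]

/-- maps preserving a nondegenerate alternating form have self-reciprocal characteristic
polynomial -/
theorem reverse_charpoly_of_preserves {W : Type*} [AddCommGroup W] [Module F W]
    [FiniteDimensional F W] (B : LinearMap.BilinForm F W) (hB : B.IsAlt)
    (hnd : ∀ x, (∀ y, B x y = 0) → x = 0) (f : W →ₗ[F] W) (hf : ∀ x y, B (f x) (f y) = B x y) :
    f.charpoly.reverse = f.charpoly := by
  classical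
  obtain ⟨m, b, hm, hb⟩ := Cfsg.Agent.Lib.Helper5.AltForm.exists_symplectic_basis hB hnd
  have hgram : LinearMap.BilinForm.toMatrix b B = Matrix.J (Fin m) F := by
    ext x y
    rw [LinearMap.BilinForm.toMatrix_apply, hb]
  have hmem : LinearMap.toMatrix b b f ∈ Matrix.symplecticGroup (Fin m) F := by
    rw [SymplecticGroup.mem_iff']
    have h1 := LinearMap.BilinForm.toMatrix_comp b b B f f
    have h2 : B.comp f f = B := by
      ext x y
      simp [hf]
    rw [h2, hgram] at h1
    exact h1.symm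
  rw [← LinearMap.charpoly_toMatrix f b]
  exact Cfsg.Agent.Lib.Helper5.SpReal.reverse_charpoly_of_mem_symplectic _ hmem

section main

variable [Fintype F] [CharP F 2] (a b : F)

/-- the isometry group -/
noncomputable abbrev O8 : Subgroup (GL I8 F) := Cfsg.isometryGroup F ⇑(QMn (F := F) 3 a b)

/-- its commutator subgroup -/
noncomputable abbrev K8 : Subgroup ↥(O8 a b) := commutator ↥(O8 a b)

/-- the natural action of the isometry group -/
noncomputable def rhoO : ↥(O8 a b) →* ((I8 → F) ≃ₗ[F] (I8 → F)) :=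
  ((LinearMap.GeneralLinearGroup.generalLinearEquiv F _).toMonoidHom.comp
    (Matrix.GeneralLinearGroup.toLin.toMonoidHom)).comp (O8 a b).subtype

/-- the natural action of `Ω` -/
noncomputable def rhoK : ↥(K8 a b) →* ((I8 → F) ≃ₗ[F] (I8 → F)) :=
  (rhoO a b).comp (K8 a b).subtype

theorem rhoK_apply (k : ↥(K8 a b)) (x : I8 → F) :
    rhoK a b k x = (((k : ↥(O8 a b)) : GL I8 F) : Matrix I8 I8 F).mulVec x := rfl

theorem rhoK_toLinearMap (k : ↥(K8 a b)) :
    (rhoK a b k : (I8 → F) ≃ₗ[F] (I8 → F)).toLinearMap =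
      Matrix.toLin' (((k : ↥(O8 a b)) : GL I8 F) : Matrix I8 I8 F) := by
  apply LinearMap.ext
  intro x
  rw [Matrix.toLin'_apply]
  rfl

theorem mat_pow_eq_one_iff (h : ↥(O8 a b)) (k : ℕ) :
    ((h : GL I8 F) : Matrix I8 I8 F) ^ k = 1 ↔ h ^ k = 1 := by
  constructor
  · intro hk
    apply Subtype.ext
    apply Units.ext
    rw [SubgroupClass.coe_pow, Units.val_pow_eq_pow_val]
    exact hk
  · intro hk
    have := congrArg (fun x : ↥(O8 a b) => ((x : GL I8 F) : Matrix I8 I8 F)) hk
    simp only [SubgroupClass.coe_pow, Units.val_pow_eq_pow_val] at this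
    exact this

theorem orbSum_toLin' (A : Matrix I8 I8 F) (v : I8 → F) (n : ℕ) :
    orbSum (Matrix.toLin' A) v n = Matrix.toLin' (∑ i ∈ Finset.range n, A ^ i) v := by
  rw [orbSum, map_sum, LinearMap.sum_apply]
  apply Finset.sum_congr rfl
  intro i _
  rw [Matrix.toLin'_pow]

variable (hab : ∀ z₁ z₂ : F, z₁ ^ 2 + a * z₁ * z₂ + b * z₂ ^ 2 = 0 → z₁ = 0 ∧ z₂ = 0)

include hab

theorem reverse_charpoly_O8 (h : ↥(O8 a b)) :
    ((h : GL I8 F) : Matrix I8 I8 F).charpoly.reverse =
      ((h : GL I8 F) : Matrix I8 I8 F).charpoly := by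
  set Q := QMn (F := F) 3 a b with hQ
  have hnd := QMn_nondeg 3 a b hab
  set B : LinearMap.BilinForm F (I8 → F) := polarBilin Q with hB
  have hBa : ∀ x y, B x y = polar Q x y := fun x y => rfl
  have halt : B.IsAlt := by
    intro x
    rw [hBa, polar_self, two_nsmul, CharTwo.add_self_eq_zero]
  have hQg : ∀ x, Q (Matrix.toLin' ((h : GL I8 F) : Matrix I8 I8 F) x) = Q x := by
    intro x
    rw [Matrix.toLin'_apply]
    exact h.2 x x
  have := reverse_charpoly_of_preserves B halt (fun x hx => hnd.1 x hx)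
    (Matrix.toLin' ((h : GL I8 F) : Matrix I8 I8 F)) (by
      intro x y
      rw [hBa, hBa]
      simp only [polar, ← map_add, hQg])
  rwa [Matrix.charpoly_toLin'] at this

theorem spectrum_semi :
    Set.range (orderOf : Semi (rhoK a b) → ℕ) = Set.range (orderOf : Cfsg.PSp 4 F → ℕ) := by
  classical
  haveI : Finite (Semi (rhoK a b)) := finite_semi _
  have hQ' := QMn_nondeg (F := F) 3 a b hab
  have hex : Fintype.card F ≠ 2 ∨ Fintype.card I8 ≠ 4 := Or.inr (by rw [card_I8]; decide)
  have hn8 : 2 ≤ Fintype.card I8 := by rw [card_I8]; decide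
  have hspec : Set.range (orderOf : Cfsg.PSp 4 F → ℕ) = Set.range (orderOf : ↥(O8 a b) → ℕ) := by
    have := spectrum_eq a b hab
    rw [← QMn_coe 3 a b] at this
    exact this
  have hreal : ∀ N ∈ L8 (Fintype.card F), ∃ M : ↥(O8 a b), orderOf M = N := by
    intro N hN
    have := exists_orderOf_eq a b hab N hN
    rw [← QMn_coe 3 a b] at this
    exact this
  apply Set.eq_of_subset_of_subset
  · rintro _ ⟨x, rfl⟩
    rw [hspec]
    set h : ↥(K8 a b) := x.right with hh
    have hfin : IsOfFinOrder h := isOfFinOrder_of_finite h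
    have hoh : orderOf (h : ↥(O8 a b)) = orderOf h := Subgroup.orderOf_coe h
    by_cases h0 : orbSum (rhoK a b x.right : (I8 → F) ≃ₗ[F] (I8 → F)).toLinearMap
        (Multiplicative.toAdd x.left) (orderOf x.right) = 0
    · rw [orderOf_semi_zero _ x h0]
      exact ⟨(h : ↥(O8 a b)), hoh⟩
    · rw [orderOf_semi_ne _ x hfin h0]
      set A : Matrix I8 I8 F := (((h : ↥(O8 a b)) : GL I8 F) : Matrix I8 I8 F) with hA
      set n := orderOf h with hn
      have hnpos : 0 < n := hfin.orderOf_pos
      have hAn : A ^ n = 1 := by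
        rw [hA, mat_pow_eq_one_iff, ← hoh]
        exact pow_orderOf_eq_one _
      have hord : ∀ k, A ^ k = 1 → n ∣ k := by
        intro k hk
        rw [hA, mat_pow_eq_one_iff] at hk
        rw [← hoh]
        exact orderOf_dvd_of_pow_eq_one hk
      have hS : ∑ i ∈ Finset.range n, A ^ i ≠ 0 := by
        intro hz
        apply h0
        rw [rhoK_toLinearMap, orbSum_toLin', hz, map_zero, LinearMap.zero_apply]
      have hev : Even (A - 1).rank :=
        (Cfsg.Agent.Lib.Helper5.OmegaCrit.mem_commutator_iff_rank₂ CharTwo.two_eq_zero hQ' hex hn8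
          (h : ↥(O8 a b))).1 h.2
      obtain ⟨N, hN, hdvd⟩ := exists_L8_of_orbit card_I8 A (reverse_charpoly_O8 a b hab _) n hnpos hAn
        hord hS hev
      obtain ⟨M, hM⟩ := hreal N hN
      obtain ⟨k, hk⟩ := hdvd
      have hNpos : 0 < N := by
        rw [← hM]
        exact orderOf_pos M
      have hk0 : k ≠ 0 := by
        rintro rfl
        rw [mul_zero] at hk
        omega
      refine ⟨M ^ k, ?_⟩
      rw [orderOf_pow_of_dvd hk0 (by rw [hM, hk]; exact dvd_mul_left _ _), hM, hk,
        Nat.mul_div_cancel _ (Nat.pos_of_ne_zero hk0)]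
  · rintro _ ⟨y, rfl⟩
    obtain ⟨g, rfl⟩ := QuotientGroup.mk_surjective y
    obtain ⟨N, hN, hgN⟩ := exists_exponent g
    have hx : (QuotientGroup.mk g : Cfsg.PSp 4 F) ^ N = 1 := by
      rw [← QuotientGroup.mk_pow, hgN]
      rfl
    have hdvd : orderOf (QuotientGroup.mk g : Cfsg.PSp 4 F) ∣ N := orderOf_dvd_of_pow_eq_one hx
    -- an element of order `N`
    have hxN : ∃ x : Semi (rhoK a b), orderOf x = N := by
      obtain ⟨h, hK, hcase⟩ := exists_elt a b hab N hN
      have hoh : orderOf (⟨h, hK⟩ : ↥(K8 a b)) = orderOf h := (Subgroup.orderOf_coe _).symm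
      rcases hcase with ho | ⟨ho, w, hw⟩
      · refine ⟨SemidirectProduct.inr ⟨h, hK⟩, ?_⟩
        rw [orderOf_injective _ SemidirectProduct.inr_injective, hoh, ho]
      · refine ⟨⟨Multiplicative.ofAdd w, ⟨h, hK⟩⟩, ?_⟩
        rw [orderOf_semi_ne _ _ (isOfFinOrder_of_finite _), hoh, ho]
        rw [rhoK_toLinearMap, hoh]
        exact hw
    obtain ⟨x, hxo⟩ := hxN
    obtain ⟨k, hk⟩ := hdvd
    have hNpos : 0 < N := by
      rcases Nat.eq_zero_or_pos N with h0 | h0
      · exfalso
        rw [h0] at hk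
        have := orderOf_pos (QuotientGroup.mk g : Cfsg.PSp 4 F)
        rcases Nat.eq_zero_or_pos k with hk0 | hk0
        · subst hk0
          rw [h0] at hxo
          have := orderOf_pos x
          omega
        · have : 0 < orderOf (QuotientGroup.mk g : Cfsg.PSp 4 F) * k := Nat.mul_pos this hk0
          omega
      · exact h0
    have hk0 : k ≠ 0 := by
      rintro rfl
      rw [mul_zero] at hk
      omega
    refine ⟨x ^ k, ?_⟩
    rw [orderOf_pow_of_dvd hk0 (by rw [hxo, hk]; exact dvd_mul_left _ _), hxo, hk,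
      Nat.mul_div_cancel _ (Nat.pos_of_ne_zero hk0)]

end main

section final

variable [Fintype F] [CharP F 2]

/-- `PSp₈(q)`, `q` even, is isospectral to finite groups of unbounded order -/
theorem unbounded (M : ℕ) :
    ∃ (H : Type) (_ : Group H) (_ : Fintype H), M < Fintype.card H ∧
      Set.range (orderOf : H → ℕ) = Set.range (orderOf : Cfsg.PSp 4 F → ℕ) := by
  classical
  obtain ⟨ζ, hζ⟩ := exists_aniso (F := F)
  haveI : Finite (Semi (rhoK (1 : F) ζ)) := finite_semi _
  set Nrm : Subgroup (Semi (rhoK (1 : F) ζ)) :=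
    (SemidirectProduct.rightHom (φ := phi (rhoK (1 : F) ζ))).ker with hNrm
  have hne : Nrm ≠ ⊥ := by
    intro hbot
    have hmem : (SemidirectProduct.inl (Multiplicative.ofAdd (fun _ : I8 => (1 : F))) :
        Semi (rhoK (1 : F) ζ)) ∈ Nrm := by
      rw [hNrm, MonoidHom.mem_ker, SemidirectProduct.rightHom_inl]
    rw [hbot, Subgroup.mem_bot] at hmem
    have h1 := congrArg SemidirectProduct.left hmem
    rw [SemidirectProduct.left_inl, SemidirectProduct.one_left] at h1
    have h2 := congrArg Multiplicative.toAdd h1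
    rw [toAdd_ofAdd, toAdd_one] at h2
    have h3 := congrFun h2 (Sum.inr 0)
    simp at h3
  have hs : Group.IsSolvable ↥Nrm := by
    apply Group.isSolvable_of_comm
    rintro ⟨x, hx⟩ ⟨y, hy⟩
    rw [hNrm, MonoidHom.mem_ker] at hx hy
    apply Subtype.ext
    show x * y = y * x
    have hx' : x.right = 1 := hx
    have hy' : y.right = 1 := hy
    apply SemidirectProduct.ext
    · rw [SemidirectProduct.mul_left, SemidirectProduct.mul_left, hx', hy', map_one,
        MulAut.one_apply, MulAut.one_apply, mul_comm]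
    · rw [SemidirectProduct.mul_right, SemidirectProduct.mul_right, hx', hy']
  obtain ⟨H, i1, i2, hcard, hrange⟩ := Cfsg.Agent.S3444.result Nrm hne hs M
  exact ⟨H, i1, i2, hcard, hrange.trans (spectrum_semi 1 ζ hζ)⟩

end final

end Cfsg.Agent.Lib.Carve.Sp8C
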